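import Cfsg.Agent.Lib.PermComp.Core
import Cfsg.Agent.Lib.SolvStruct.Fit

/-!
# Subgroups with an explicit list of elements, given by codes of permutations
-/

set_option autoImplicit false

namespace Cfsg.Agent.Lib.FusionSimple2.Codes

open Cfsg.Agent.Lib.PermComp.Core

/-- Lazy disjunction. -/
noncomputable def orC (a b : Bool) : Bool := Bool.rec b true a

theorem orC_eq_true (a b : Bool) : orC a b = true ↔ a = true ∨ b = true := by
  cases a <;> simp [orC]

/-- Kernel friendly `List.any`. -/
noncomputable def anyL {β : Type*} (f : β → Bool) (l : List β) : Bool :=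
  List.rec false (fun a _ ih => Bool.rec ih true (f a)) l

theorem anyL_eq_true {β : Type*} (f : β → Bool) (l : List β) :
    anyL f l = true ↔ ∃ a ∈ l, f a = true := by
  induction l with
  | nil => simp [anyL]
  | cons a l ih =>
    have : anyL f (a :: l) = Bool.rec (anyL f l) true (f a) := rfl
    rw [this]
    cases h : f a <;> simp [h, ih]

/-- Kernel friendly equality of lists of numbers. -/
noncomputable def eqL (l : List ℕ) : List ℕ → Bool :=
  List.rec (motive := fun _ => List ℕ → Bool)
    (fun m => List.rec true (fun _ _ _ => false) m)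
    (fun a _ ih m => List.rec false (fun b t _ => Bool.rec false (ih t) (Nat.beq a b)) m) l

theorem eqL_spec : ∀ (l m : List ℕ), eqL l m = true → l = m := by
  intro l
  induction l with
  | nil =>
    intro m h
    cases m with
    | nil => rfl
    | cons b t => exact Bool.noConfusion h
  | cons a l ih =>
    intro m h
    cases m with
    | nil => exact Bool.noConfusion h
    | cons b t =>
      have h' : Bool.rec false (eqL l t) (Nat.beq a b) = true := h
      cases hb : Nat.beq a b with
      | false =>
        rw [hb] at h'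
        exact Bool.noConfusion h'
      | true =>
        rw [hb] at h'
        rw [Nat.eq_of_beq_eq_true hb, ih t h']

/-- Kernel friendly negated equality. -/
noncomputable def neB (a b : ℕ) : Bool := Bool.rec true false (Nat.beq a b)

theorem neB_spec {a b : ℕ} (h : neB a b = true) : a ≠ b := by
  intro e
  subst e
  have : Nat.beq a a = true := Nat.beq_refl a
  simp only [neB, this] at h
  exact Bool.noConfusion h

/-- Doubling a list. -/
noncomputable def dbl (n w mask a : ℕ) (L : List ℕ) : List ℕ := L ++ L.map (comp n w mask a)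

/-- All products of the generators, each taken with exponent `0` or `1`. -/
noncomputable def prodL (n w mask idc : ℕ) : List ℕ → List ℕ
  | [] => [idc]
  | a :: as => dbl n w mask a (prodL n w mask idc as)

/-- The key of a code: its values at the given points. -/
noncomputable def keyOf (w mask : ℕ) (pts : List ℕ) (c : ℕ) : ℕ :=
  List.rec 0 (fun p _ ih => Nat.add (app w mask c p) (Nat.shiftLeft ih w)) pts

section

variable {n w mask : ℕ} {α : Type*} {e : α ≃ Fin n}

theorem app_eq_of_rep {c d : ℕ} {g : Equiv.Perm α} (hc : Rep w mask e c g) (hd : Rep w mask e d g)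
    {p : ℕ} (hp : p < n) : app w mask c p = app w mask d p := by
  have h1 := hc (e.symm ⟨p, hp⟩)
  have h2 := hd (e.symm ⟨p, hp⟩)
  simp only [Equiv.apply_symm_apply] at h1 h2
  rw [h1, h2]

theorem key_eq_of_rep {c d : ℕ} {g : Equiv.Perm α} (hc : Rep w mask e c g) (hd : Rep w mask e d g)
    {pts : List ℕ} (hp : ∀ p ∈ pts, p < n) : keyOf w mask pts c = keyOf w mask pts d := by
  induction pts with
  | nil => rfl
  | cons p pts ih =>
    have h1 : keyOf w mask (p :: pts) c = Nat.add (app w mask c p) (Nat.shiftLeft (keyOf w mask pts c) w) := rfl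
    have h2 : keyOf w mask (p :: pts) d = Nat.add (app w mask d p) (Nat.shiftLeft (keyOf w mask pts d) w) := rfl
    rw [h1, h2, ih (fun q hq => hp q (List.mem_cons_of_mem _ hq)),
      app_eq_of_rep hc hd (hp p List.mem_cons_self)]

theorem rep_prodL {idc : ℕ} (hm : mask = 2 ^ w - 1) (hid : ∀ i < n, app w mask idc i = i)
    {gens : List ℕ} (hg : ∀ a ∈ gens, ∃ g, Rep w mask e a g) :
    ∀ c ∈ prodL n w mask idc gens, ∃ g ∈ H w mask e gens, Rep w mask e c g := by
  induction gens with
  | nil =>
    intro c hc
    have h1 : c = idc := by simpa [prodL] using hc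
    subst h1
    exact ⟨1, one_mem _, rep_one hid⟩
  | cons a as ih =>
    intro c hc
    have ih' := ih (fun b hb => hg b (List.mem_cons_of_mem _ hb))
    have hle : H w mask e as ≤ H w mask e (a :: as) := H_mono (fun c hc => List.mem_cons_of_mem _ hc)
    rw [prodL, dbl, List.mem_append] at hc
    rcases hc with hc | hc
    · obtain ⟨g, hg', hr⟩ := ih' c hc
      exact ⟨g, hle hg', hr⟩
    · obtain ⟨d, hd, rfl⟩ := List.mem_map.1 hc
      obtain ⟨g, hg', hr⟩ := ih' d hd
      obtain ⟨A, hA⟩ := hg a List.mem_cons_self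
      exact ⟨A * g, mul_mem (H_of_rep List.mem_cons_self hA) (hle hg'), hA.comp hm hr⟩

/-- The check of closure under the generators. -/
noncomputable def closOK (n w mask : ℕ) (L gens : List ℕ) : Bool :=
  allL (fun a => allL (fun c => memN (comp n w mask a c) L) L) gens

theorem exists_code [Finite α] {idc : ℕ} (hm : mask = 2 ^ w - 1)
    (hid : ∀ i < n, app w mask idc i = i) {gens L : List ℕ} (hidL : idc ∈ L)
    (hcl : closOK n w mask L gens = true) :
    ∀ g ∈ H w mask e gens, ∃ c ∈ L, Rep w mask e c g := by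
  let X : Set (Equiv.Perm α) := {x | ∃ c ∈ L, Rep w mask e c x}
  have h1 : ∀ g ∈ H w mask e gens, ∀ x ∈ X, g * x ∈ X := by
    intro g hg
    induction hg using Subgroup.closure_induction with
    | mem g hg =>
      obtain ⟨a, ha, hr⟩ := hg
      rintro x ⟨c, hc, hx⟩
      have h2 := (allL_eq_true _ _).1 ((allL_eq_true _ _).1 hcl a ha) c hc
      exact ⟨_, (memN_eq_true _ _).1 h2, hr.comp hm hx⟩
    | one =>
      intro x hx
      simpa using hx
    | mul a b _ _ ha hb =>
      intro x hx
      rw [mul_assoc]
      exact ha _ (hb x hx)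
    | inv a _ ha =>
      have hpow : ∀ k : ℕ, ∀ x ∈ X, a ^ k * x ∈ X := by
        intro k
        induction k with
        | zero =>
          intro x hx
          simpa using hx
        | succ k ih =>
          intro x hx
          rw [pow_succ, mul_assoc]
          exact ih _ (ha x hx)
      have : Finite (Equiv.Perm α) := by
        have : Finite α := inferInstance
        infer_instance
      have h0 : 0 < orderOf a := orderOf_pos a
      have e1 : a⁻¹ = a ^ (orderOf a - 1) := by
        apply inv_eq_of_mul_eq_one_right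
        rw [← pow_succ', Nat.sub_add_cancel h0, pow_orderOf_eq_one]
      rw [e1]
      exact hpow _
  intro g hg
  have := h1 g hg 1 ⟨idc, hidL, rep_one hid⟩
  rwa [mul_one] at this

theorem card_H_of_codes {gens L : List ℕ}
    (hL1 : ∀ c ∈ L, ∃ g ∈ H w mask e gens, Rep w mask e c g)
    (hL2 : ∀ g ∈ H w mask e gens, ∃ c ∈ L, Rep w mask e c g)
    {pts : List ℕ} (hp : ∀ p ∈ pts, p < n) (hnd : (L.map (keyOf w mask pts)).Nodup) :
    Nat.card (H w mask e gens) = L.length := by
  have hmem : ∀ i : Fin L.length, L[i.1] ∈ L := fun i => List.getElem_mem _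
  let f : Fin L.length → H w mask e gens :=
    fun i => ⟨Classical.choose (hL1 _ (hmem i)), (Classical.choose_spec (hL1 _ (hmem i))).1⟩
  have hf : ∀ i, Rep w mask e L[i.1] (f i : Equiv.Perm α) :=
    fun i => (Classical.choose_spec (hL1 _ (hmem i))).2
  have hbij : Function.Bijective f := by
    constructor
    · intro i j hij
      have h1 := hf i
      have h2 := hf j
      rw [← hij] at h2
      have h3 := key_eq_of_rep h1 h2 hp
      have h4 : (L.map (keyOf w mask pts))[i.1]'(by simp) = (L.map (keyOf w mask pts))[j.1]'(by simp) := by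
        simpa using h3
      exact Fin.ext ((List.Nodup.getElem_inj_iff hnd).1 h4)
    · rintro ⟨g, hg⟩
      obtain ⟨c, hc, hr⟩ := hL2 g hg
      obtain ⟨i, hi, rfl⟩ := List.getElem_of_mem hc
      refine ⟨⟨i, hi⟩, Subtype.ext ?_⟩
      exact (hf ⟨i, hi⟩).unique hr
  rw [← Nat.card_congr (Equiv.ofBijective f hbij), Nat.card_fin]

/-- Test whether a code does not commute with some generator at the given points. -/
noncomputable def ncOK (w mask : ℕ) (gens pts : List ℕ) (c : ℕ) : Bool :=
  anyL (fun a => anyL (fun i => neB (app w mask c (app w mask a i)) (app w mask a (app w mask c i))) pts) gens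

/-- The list of codes has only the two central elements `idc` and `z`. -/
noncomputable def centOK (w mask idc z : ℕ) (gens pts : List ℕ) (L : List ℕ) : Bool :=
  allL (fun c => orC (Nat.beq c idc) (orC (Nat.beq c z) (ncOK w mask gens pts c))) L

theorem not_comm_of_ncOK {gens pts : List ℕ} (hp : ∀ p ∈ pts, p < n) {c : ℕ} {g : Equiv.Perm α}
    (hg : Rep w mask e c g) (hgens : ∀ a ∈ gens, ∃ A, A ∈ H w mask e gens ∧ Rep w mask e a A)
    (h : ncOK w mask gens pts c = true) : ∃ A ∈ H w mask e gens, g * A ≠ A * g := by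
  obtain ⟨a, ha, h1⟩ := (anyL_eq_true _ _).1 h
  obtain ⟨i, hi, h2⟩ := (anyL_eq_true _ _).1 h1
  obtain ⟨A, hA, hr⟩ := hgens a ha
  refine ⟨A, hA, fun hcomm => neB_spec h2 ?_⟩
  have h3 := hr (e.symm ⟨i, hp i hi⟩)
  have h4 := hg (e.symm ⟨i, hp i hi⟩)
  simp only [Equiv.apply_symm_apply] at h3 h4
  rw [h3, h4, hg, hr]
  have h5 : g (A (e.symm ⟨i, hp i hi⟩)) = A (g (e.symm ⟨i, hp i hi⟩)) :=
    DFunLike.congr_fun hcomm _
  rw [h5]

/-- A non-trivial subgroup normalized by a `2`-group with an explicit list of elements contains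
the unique non-trivial central element. -/
theorem z_mem [Finite α] {idc z k : ℕ} (hid : ∀ i < n, app w mask idc i = i) {gens pts L : List ℕ}
    (hp : ∀ p ∈ pts, p < n) (hL2 : ∀ g ∈ H w mask e gens, ∃ c ∈ L, Rep w mask e c g)
    (hgens : ∀ a ∈ gens, ∃ A, A ∈ H w mask e gens ∧ Rep w mask e a A)
    (hcard : Nat.card (H w mask e gens) = 2 ^ k)
    (hc : centOK w mask idc z gens pts L = true)
    {T : Subgroup (Equiv.Perm α)} (hT : T ≤ H w mask e gens) (hne : T ≠ ⊥)
    (hn : ∀ x ∈ T, ∀ r ∈ H w mask e gens, r * x * r⁻¹ ∈ T) : ∃ Z ∈ T, Rep w mask e z Z := by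
  have : Fact (Nat.Prime 2) := ⟨Nat.prime_two⟩
  have : Finite (Equiv.Perm α) := inferInstance
  have hpg : IsPGroup 2 (H w mask e gens) := IsPGroup.of_card hcard
  have : Group.IsNilpotent (H w mask e gens) := hpg.isNilpotent
  let N : Subgroup (H w mask e gens) := T.subgroupOf (H w mask e gens)
  have hNn : N.Normal := by
    constructor
    intro x hx r
    rw [Subgroup.mem_subgroupOf] at hx ⊢
    exact hn _ hx _ r.2
  have hNne : N ≠ ⊥ := by
    intro h
    apply hne
    rw [eq_bot_iff]
    intro x hx
    have h1 : (⟨x, hT hx⟩ : H w mask e gens) ∈ N := by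
      rw [Subgroup.mem_subgroupOf]
      exact hx
    rw [h, Subgroup.mem_bot] at h1
    rw [Subgroup.mem_bot]
    exact congrArg Subtype.val h1
  have hZ := Cfsg.Agent.Lib.SolvStruct.Fit.inf_center_ne_bot N hNne
  rw [Ne, Subgroup.eq_bot_iff_forall] at hZ
  push Not at hZ
  obtain ⟨y, ⟨hyN, hyc⟩, hy1⟩ := hZ
  obtain ⟨c, hcL, hr⟩ := hL2 _ y.2
  have hyT : (y : Equiv.Perm α) ∈ T := hyN
  have h1 := (allL_eq_true _ _).1 hc c hcL
  rw [orC_eq_true, orC_eq_true] at h1
  rcases h1 with h1 | h1 | h1
  · exfalso
    apply hy1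
    apply Subtype.ext
    rw [Nat.eq_of_beq_eq_true h1] at hr
    exact hr.unique (rep_one hid)
  · rw [Nat.eq_of_beq_eq_true h1] at hr
    exact ⟨_, hyT, hr⟩
  · exfalso
    obtain ⟨A, hA, hne'⟩ := not_comm_of_ncOK hp hr hgens h1
    apply hne'
    have := (Subgroup.mem_center_iff.1 hyc) ⟨A, hA⟩
    exact (congrArg Subtype.val this).symm

end

/-- A lower bound for the index of a subgroup. -/
theorem card_le_of_sep {G : Type*} [Group G] [Finite G] (K : Subgroup G) {ι : Type*} (f : ι → G)
    (h : ∀ i j, (f i)⁻¹ * f j ∈ K → i = j) : Nat.card ι * Nat.card K ≤ Nat.card G := by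
  have hinj : Function.Injective (fun i => (QuotientGroup.mk (f i) : G ⧸ K)) := by
    intro i j hij
    exact h i j (QuotientGroup.eq.1 hij)
  have h1 : Nat.card ι ≤ K.index := by
    rw [Subgroup.index]
    exact Nat.card_le_card_of_injective _ hinj
  rw [← Subgroup.card_mul_index K, mul_comm]
  exact Nat.mul_le_mul_left _ h1

end Cfsg.Agent.Lib.FusionSimple2.Codes
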