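import Cfsg.Agent.Lib.FusionSimple.Basic

/-!
# A criterion for simplicity of a fusion system when `N_G(S) = S⟨t⟩`

Here `S` is a Sylow `2`-subgroup whose only non-trivial subgroup closed under conjugation into `S` is `S`.  A
subgroup `Q` normal in `S` is weakly closed in `S`; the element `t` normalizes `S` and `Q`, generates `N_G(S)`
modulo `S`, and is a product of two elements of order dividing `5` normalizing `Q`.  Then the fusion system is simple.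
-/

set_option autoImplicit false

namespace Cfsg.Agent.Lib.FusionSimple2.Abstract

open Cfsg Cfsg.FusionSystem

set_option linter.unusedSectionVars false

variable {G : Type*} [Group G] [Finite G]

/-- The hypotheses of the criterion. -/
structure FusData (S Q : Subgroup G) (t y₁ y₂ : G) : Prop where
  hne : S ≠ ⊥
  hT : ∀ T : Subgroup G, T ≤ S → T ≠ ⊥ →
    (∀ x ∈ T, ∀ g : G, g * x * g⁻¹ ∈ S → g * x * g⁻¹ ∈ T) → T = S
  hQS : Q ≤ S
  hSQ : ∀ s ∈ S, ∀ q ∈ Q, s * q * s⁻¹ ∈ Q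
  hQw : ∀ g : G, (∀ q ∈ Q, g * q * g⁻¹ ∈ S) → ∀ q ∈ Q, g * q * g⁻¹ ∈ Q
  htS : ∀ s ∈ S, t * s * t⁻¹ ∈ S
  htQ : ∀ q ∈ Q, t * q * t⁻¹ ∈ Q
  hN : ∀ g : G, (∀ s ∈ S, g * s * g⁻¹ ∈ S) → ∃ i : ℕ, i < 3 ∧ ∃ s ∈ S, g = t ^ i * s
  hC : ∀ g : G, (∀ s ∈ S, g * s * g⁻¹ ∈ S) → (∀ q ∈ Q, g * q * g⁻¹ = t * q * t⁻¹) →
    ∃ s ∈ S, g = t * s
  hy₁ : y₁ ^ 5 = 1
  hy₂ : y₂ ^ 5 = 1
  hy₁Q : ∀ q ∈ Q, y₁ * q * y₁⁻¹ ∈ Q
  hy₂Q : ∀ q ∈ Q, y₂ * q * y₂⁻¹ ∈ Q
  ht : t = y₁ * y₂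

theorem exists_pow_eq_inv (g : G) : ∃ n : ℕ, g⁻¹ = g ^ n := by
  refine ⟨orderOf g - 1, ?_⟩
  have h : 0 < orderOf g := orderOf_pos g
  apply inv_eq_of_mul_eq_one_right
  rw [← pow_succ', Nat.sub_add_cancel h, pow_orderOf_eq_one]

theorem conj_pow_mem {A : Subgroup G} {g : G} (h : ∀ a ∈ A, g * a * g⁻¹ ∈ A) (k : ℕ) :
    ∀ a ∈ A, g ^ k * a * (g ^ k)⁻¹ ∈ A := by
  induction k with
  | zero => intro a ha; simpa using ha
  | succ k ih =>
    intro a ha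
    have := ih _ (h a ha)
    have e : g ^ (k + 1) * a * (g ^ (k + 1))⁻¹ = g ^ k * (g * a * g⁻¹) * (g ^ k)⁻¹ := by
      rw [pow_succ]
      group
    rw [e]
    exact this

theorem conj_inv_mem {A : Subgroup G} {g : G} (h : ∀ a ∈ A, g * a * g⁻¹ ∈ A) :
    ∀ a ∈ A, g⁻¹ * a * g⁻¹⁻¹ ∈ A := by
  obtain ⟨n, hn⟩ := exists_pow_eq_inv g
  rw [hn]
  exact conj_pow_mem h n

variable {S : Subgroup G}

/-- `x` normalizes `P` and conjugation by `x` on `P` is a map of `E`. -/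
def XX (E : FusionSystem S) (P : Subgroup G) (x : G) : Prop :=
  (∀ q ∈ P, x * q * x⁻¹ ∈ P) ∧ conjHom P x ∈ E.Hom P

theorem XX_mul {E : FusionSystem S} {P : Subgroup G} {a b : G} (ha : XX E P a) (hb : XX E P b) :
    XX E P (a * b) := by
  refine ⟨fun q hq => ?_, ?_⟩
  · have := ha.1 _ (hb.1 q hq)
    have e : a * b * q * (a * b)⁻¹ = a * (b * q * b⁻¹) * a⁻¹ := by group
    rw [e]
    exact this
  · have := E.comp_mem hb.2 ha.2 (fun x => hb.1 x x.2)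
    convert this using 1
    ext x
    show a * b * (x : G) * (a * b)⁻¹ = a * (b * (x : G) * b⁻¹) * a⁻¹
    group

theorem XX_of_mem {E : FusionSystem S} {P : Subgroup G} (hP : P ≤ S) {s : G} (hs : s ∈ S)
    (h : ∀ q ∈ P, s * q * s⁻¹ ∈ P) : XX E P s :=
  ⟨h, E.conj_mem hP hs⟩

theorem XX_one {E : FusionSystem S} {P : Subgroup G} (hP : P ≤ S) : XX E P 1 :=
  XX_of_mem hP S.one_mem (fun q hq => by simpa using hq)

theorem XX_pow {E : FusionSystem S} {P : Subgroup G} (hP : P ≤ S) {a : G} (ha : XX E P a) (k : ℕ) :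
    XX E P (a ^ k) := by
  induction k with
  | zero => simpa using XX_one hP
  | succ k ih =>
    rw [pow_succ]
    exact XX_mul ih ha

theorem XX_inv {E : FusionSystem S} {P : Subgroup G} (hP : P ≤ S) {a : G} (ha : XX E P a) :
    XX E P a⁻¹ := by
  obtain ⟨n, hn⟩ := exists_pow_eq_inv a
  rw [hn]
  exact XX_pow hP ha n

/-- The automorphisms of `S` in the fusion system of `G` are conjugations. -/
theorem exists_conj_of_aut {α : MulAut S} (hα : α ∈ (groupFusionSystem S).autGroup S) :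
    ∃ g : G, (∀ s ∈ S, g * s * g⁻¹ ∈ S) ∧ ∀ x : S, ((α x : S) : G) = g * (x : G) * g⁻¹ := by
  induction hα using Subgroup.closure_induction with
  | mem α hα =>
    obtain ⟨-, -, g, hg⟩ := hα
    refine ⟨g, ?_, fun x => hg x⟩
    intro s hs
    have := hg ⟨s, hs⟩
    rw [← show _ = g * s * g⁻¹ from this]
    exact (α ⟨s, hs⟩).2
  | one => exact ⟨1, fun s hs => by simpa using hs, fun x => by simp⟩
  | mul α β _ _ hα hβ =>
    obtain ⟨a, ha, hα⟩ := hα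
    obtain ⟨b, hb, hβ⟩ := hβ
    refine ⟨a * b, ?_, fun x => ?_⟩
    · intro s hs
      have := ha _ (hb s hs)
      have e : a * b * s * (a * b)⁻¹ = a * (b * s * b⁻¹) * a⁻¹ := by group
      rw [e]
      exact this
    · show ((α (β x) : S) : G) = _
      rw [hα, hβ]
      group
  | inv α _ hα =>
    obtain ⟨a, ha, hα⟩ := hα
    refine ⟨a⁻¹, conj_inv_mem ha, fun x => ?_⟩
    have h := hα (α⁻¹ x)
    rw [MulAut.apply_inv_self] at h
    rw [h]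
    group

theorem range_conjHom {Q : Subgroup G} {g : G} (h : ∀ q ∈ Q, g * q * g⁻¹ ∈ Q) :
    (conjHom Q g).range = Q := by
  apply le_antisymm
  · rintro _ ⟨x, rfl⟩
    exact h x x.2
  · intro q hq
    have h1 := conj_inv_mem h q hq
    refine ⟨⟨_, h1⟩, ?_⟩
    show g * (g⁻¹ * q * g⁻¹⁻¹) * g⁻¹ = q
    group

section main

variable {Q : Subgroup G} {t y₁ y₂ : G} (hD : FusData S Q t y₁ y₂) {E : FusionSystem S}
  (hsub : E.IsSubsystemOf (groupFusionSystem S))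
  (hfr : ∀ (P : Subgroup G), P ≤ S → ∀ (φ : P →* G), φ ∈ (groupFusionSystem S).Hom P →
      ∃ α ∈ (groupFusionSystem S).autGroup S, ∃ φ₀ ∈ E.Hom P, ∀ (x : P) (hx : φ₀ x ∈ S),
        φ x = ((α ⟨φ₀ x, hx⟩ : S) : G))

include hD in
theorem t_pow_S (i : ℕ) : ∀ s ∈ S, t ^ i * s * (t ^ i)⁻¹ ∈ S := conj_pow_mem hD.htS i

include hD hfr in
/-- The Frattini argument on `Q`. -/
theorem exists_t_mul {y : G} (hy : ∀ q ∈ Q, y * q * y⁻¹ ∈ Q) :
    ∃ i : ℕ, i < 3 ∧ ∃ x, XX E Q x ∧ y = t ^ i * x := by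
  have hφ : conjHom Q y ∈ (groupFusionSystem S).Hom Q :=
    ⟨hD.hQS, fun x => hD.hQS (hy x x.2), y, fun _ => rfl⟩
  obtain ⟨α, hα, φ₀, hφ₀, hfac⟩ := hfr Q hD.hQS _ hφ
  obtain ⟨g, hgS, hgα⟩ := exists_conj_of_aut hα
  obtain ⟨i, hi, s, hs, rfl⟩ := hD.hN g hgS
  have hφ₀S : ∀ x : Q, φ₀ x ∈ S := (E.le_of_mem hφ₀).2
  have hgQ : ∀ q ∈ Q, (t ^ i * s) * q * (t ^ i * s)⁻¹ ∈ Q := by
    intro q hq
    have h1 := conj_pow_mem hD.htQ i _ (hD.hSQ s hs q hq)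
    have e : t ^ i * s * q * (t ^ i * s)⁻¹ = t ^ i * (s * q * s⁻¹) * (t ^ i)⁻¹ := by group
    rw [e]
    exact h1
  have key : ∀ x : Q, φ₀ x = ((t ^ i * s)⁻¹ * y) * x * ((t ^ i * s)⁻¹ * y)⁻¹ := by
    intro x
    have h1 := hfac x (hφ₀S x)
    rw [hgα] at h1
    have h2 : y * (x : G) * y⁻¹ = t ^ i * s * φ₀ x * (t ^ i * s)⁻¹ := h1
    have h3 : φ₀ x = (t ^ i * s)⁻¹ * (y * (x : G) * y⁻¹) * (t ^ i * s) := by
      rw [h2]
      group
    rw [h3]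
    group
  have hX : XX E Q ((t ^ i * s)⁻¹ * y) := by
    refine ⟨fun q hq => ?_, ?_⟩
    · have h1 := conj_inv_mem hgQ _ (hy q hq)
      have e : (t ^ i * s)⁻¹ * y * q * ((t ^ i * s)⁻¹ * y)⁻¹ =
          (t ^ i * s)⁻¹ * (y * q * y⁻¹) * (t ^ i * s)⁻¹⁻¹ := by group
      rw [e]
      exact h1
    · convert hφ₀ using 1
      ext x
      rw [key x]
      rfl
  refine ⟨i, hi, s * ((t ^ i * s)⁻¹ * y), XX_mul (XX_of_mem hD.hQS hs (hD.hSQ s hs)) hX, ?_⟩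
  group

include hD hfr in
/-- Elements of order dividing `5` normalizing `Q` act through `E`. -/
theorem XX_of_five {y : G} (hy : ∀ q ∈ Q, y * q * y⁻¹ ∈ Q) (h5 : y ^ 5 = 1) : XX E Q y := by
  have hP := hD.hQS
  have step : ∀ (k d i : ℕ) (a b : G), XX E Q a → XX E Q b → y ^ k = t ^ i * a →
      y ^ (k + d) = t ^ i * b → XX E Q (y ^ d) := by
    intro k d i a b ha hb h1 h2
    have e : y ^ d = a⁻¹ * b := by
      have h3 : y ^ d = (y ^ k)⁻¹ * y ^ (k + d) := by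
        rw [pow_add]
        group
      rw [h3, h1, h2]
      group
    rw [e]
    exact XX_mul (XX_inv hP ha) hb
  have hyk : ∀ k : ℕ, ∃ i : ℕ, i < 3 ∧ ∃ x, XX E Q x ∧ y ^ k = t ^ i * x :=
    fun k => exists_t_mul hD hfr (conj_pow_mem hy k)
  obtain ⟨i0, h0, a0, ha0, e0⟩ := hyk 0
  obtain ⟨i1, h1, a1, ha1, e1⟩ := hyk 1
  obtain ⟨i2, h2, a2, ha2, e2⟩ := hyk 2
  obtain ⟨i3, h3, a3, ha3, e3⟩ := hyk 3
  have one : XX E Q (y ^ 1) → XX E Q y := by simp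
  have two : XX E Q (y ^ 2) → XX E Q y := by
    intro h
    have := XX_pow hP h 3
    have e : (y ^ 2) ^ 3 = y := by
      rw [← pow_mul, show 2 * 3 = 5 + 1 from rfl, pow_succ, h5, one_mul]
    rwa [e] at this
  have three : XX E Q (y ^ 3) → XX E Q y := by
    intro h
    have := XX_pow hP h 2
    have e : (y ^ 3) ^ 2 = y := by
      rw [← pow_mul, show 3 * 2 = 5 + 1 from rfl, pow_succ, h5, one_mul]
    rwa [e] at this
  have hcases : i0 = i1 ∨ i0 = i2 ∨ i0 = i3 ∨ i1 = i2 ∨ i1 = i3 ∨ i2 = i3 := by omega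
  rcases hcases with h | h | h | h | h | h
  · subst h
    exact one (step 0 1 i0 a0 a1 ha0 ha1 e0 e1)
  · subst h
    exact two (step 0 2 i0 a0 a2 ha0 ha2 e0 e2)
  · subst h
    exact three (step 0 3 i0 a0 a3 ha0 ha3 e0 e3)
  · subst h
    exact one (step 1 1 i1 a1 a2 ha1 ha2 e1 e2)
  · subst h
    exact two (step 1 2 i1 a1 a3 ha1 ha3 e1 e3)
  · subst h
    exact one (step 2 1 i2 a2 a3 ha2 ha3 e2 e3)

include hD hfr in
theorem XX_t : XX E Q t := by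
  rw [hD.ht]
  exact XX_mul (XX_of_five hD hfr hD.hy₁Q hD.hy₁) (XX_of_five hD hfr hD.hy₂Q hD.hy₂)

include hD hsub hfr in
/-- Saturation of `E` extends conjugation by `t` from `Q` to `S`. -/
theorem conj_t_mem (hsat : E.IsSaturated 2) : conjHom S t ∈ E.Hom S := by
  have hXt : XX E Q t := XX_t hD hfr
  obtain ⟨Q', ⟨ψ, hψ, hr⟩, -, hrec⟩ := hsat Q hD.hQS
  obtain ⟨-, hval, g, hg⟩ := hsub Q hψ
  have hgS : ∀ q ∈ Q, g * q * g⁻¹ ∈ S := by
    intro q hq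
    have := hval ⟨q, hq⟩
    rwa [hg] at this
  have hgQ := hD.hQw g hgS
  have hQ' : Q' = Q := by
    have e : ψ = conjHom Q g := by
      ext x
      rw [hg]
      rfl
    rw [← hr, e, range_conjHom hgQ]
  subst hQ'
  have hrange : (conjHom Q' t).range = Q' := range_conjHom hD.htQ
  obtain ⟨ψ₂, hψ₂, hag⟩ := hrec.2 Q' (conjHom Q' t) hXt.2 hrange
  have hext : extender S Q' (conjHom Q' t) = S := by
    apply le_antisymm
    · rw [extender, Subgroup.closure_le]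
      rintro x ⟨hx, -⟩
      exact hx
    · intro s hs
      apply Subgroup.subset_closure
      refine ⟨hs, ?_, t * s * t⁻¹, hD.htS s hs, ?_⟩
      · rw [Subgroup.mem_normalizer_iff]
        intro h
        constructor
        · exact hD.hSQ s hs h
        · intro h1
          have h2 := conj_inv_mem (hD.hSQ s hs) _ h1
          have e : s⁻¹ * (s * h * s⁻¹) * s⁻¹⁻¹ = h := by group
          rwa [e] at h2
      · intro x hx
        show t * (s * (x : G) * s⁻¹) * t⁻¹ = t * s * t⁻¹ * (t * (x : G) * t⁻¹) * (t * s * t⁻¹)⁻¹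
        group
  have main : ∀ (A : Subgroup G), A = S → ∀ ψ₂ : A →* G, ψ₂ ∈ E.Hom A →
      (∀ (x : G) (hP : x ∈ Q') (hN : x ∈ A), ψ₂ ⟨x, hN⟩ = conjHom Q' t ⟨x, hP⟩) →
      conjHom S t ∈ E.Hom S := by
    intro A hA
    subst hA
    intro ψ₂ hψ₂ hag
    obtain ⟨-, hval₂, g₂, hg₂⟩ := hsub A hψ₂
    have hg₂S : ∀ s ∈ A, g₂ * s * g₂⁻¹ ∈ A := by
      intro s hs
      have := hval₂ ⟨s, hs⟩
      rwa [hg₂] at this
    have hg₂Q : ∀ q ∈ Q', g₂ * q * g₂⁻¹ = t * q * t⁻¹ := by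
      intro q hq
      have h1 := hag q hq (hD.hQS hq)
      rw [hg₂] at h1
      exact h1
    obtain ⟨s₀, hs₀, rfl⟩ := hD.hC g₂ hg₂S hg₂Q
    have hc := E.comp_mem (E.conj_mem (le_refl A) (A.inv_mem hs₀)) hψ₂ (fun x =>
      A.mul_mem (A.mul_mem (A.inv_mem hs₀) x.2) (A.inv_mem (A.inv_mem hs₀)))
    convert hc using 1
    ext x
    show t * (x : G) * t⁻¹ = ψ₂ ⟨s₀⁻¹ * (x : G) * s₀⁻¹⁻¹, _⟩
    rw [hg₂]
    show _ = t * s₀ * (s₀⁻¹ * (x : G) * s₀⁻¹⁻¹) * (t * s₀)⁻¹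
    group
  exact main _ hext ψ₂ hψ₂ hag

include hD hsub hfr in
theorem conj_mem_of_norm (hsat : E.IsSaturated 2) {g : G} (hg : ∀ s ∈ S, g * s * g⁻¹ ∈ S) :
    conjHom S g ∈ E.Hom S := by
  obtain ⟨i, -, s, hs, rfl⟩ := hD.hN g hg
  have ht : XX E S t := ⟨hD.htS, conj_t_mem hD hsub hfr hsat⟩
  have hs' : XX E S s := XX_of_mem (le_refl S) hs (fun q hq =>
    S.mul_mem (S.mul_mem hs hq) (S.inv_mem hs))
  exact (XX_mul (XX_pow (le_refl S) ht i) hs').2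

end main

/-- The criterion. -/
theorem simple_of_fusData (S : Sylow 2 G) {Q : Subgroup G} {t y₁ y₂ : G}
    (hD : FusData (S : Subgroup G) Q t y₁ y₂) :
    (groupFusionSystem (S : Subgroup G)).IsSimple 2 := by
  refine ⟨Cfsg.Agent.Lib.Fusion.GroupSystem.isSaturated S, hD.hne, ?_⟩
  intro T E hE
  obtain ⟨⟨hsat, -, hsub, hsc, -, hfr⟩, -⟩ := hE
  by_cases hbot : T = ⊥
  · exact Or.inl hbot
  right
  have hTS : T = S := hD.hT T hsc.1 hbot
    (Cfsg.Agent.Lib.FusionSimple.Basic.closed_of_stronglyClosed hsc)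
  subst hTS
  refine ⟨rfl, fun P => Set.Subset.antisymm (hsub P) ?_⟩
  intro φ hφ
  have hP : P ≤ (S : Subgroup G) := ((groupFusionSystem (S : Subgroup G)).le_of_mem hφ).1
  obtain ⟨α, hα, φ₀, hφ₀, hfac⟩ := hfr P hP φ hφ
  obtain ⟨g, hgS, hgα⟩ := exists_conj_of_aut hα
  have hφ₀S : ∀ x : P, φ₀ x ∈ (S : Subgroup G) := (E.le_of_mem hφ₀).2
  have hc := E.comp_mem hφ₀ (conj_mem_of_norm hD hsub hfr hsat hgS) hφ₀S
  convert hc using 1
  ext x
  rw [hfac x (hφ₀S x), hgα]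
  rfl

end Cfsg.Agent.Lib.FusionSimple2.Abstract
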